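import Cfsg.Agent.H92.FiHe.Tbl
import Cfsg.Agent.H92.FiHe.Hom

/-!
The presented Fi24 realises the largest Fischer 3-transposition group.
-/

set_option autoImplicit false
set_option linter.constructorNameAsVariable false
set_option maxRecDepth 100000

namespace H92.FiHe

open H40.Fischer.M24 (x cl coset cl_coset mem_D cent_l class_tt)

local notation "G₀" => Cfsg.Spor.Fi24

theorem cent_conj (g : G₀) : Subgroup.centralizer ({g * x .l * g⁻¹} : Set G₀) =
    H40.Fischer.M24.H.map (MulAut.conj g).toMonoidHom := by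
  rw [← cent_l facts]
  ext y
  simp only [Subgroup.mem_map, Subgroup.mem_centralizer_singleton_iff, MulEquiv.coe_toMonoidHom,
    MulAut.conj_apply]
  constructor
  · intro h
    refine ⟨g⁻¹ * y * g, ?_, by group⟩
    calc g⁻¹ * y * g * x .l = g⁻¹ * (y * (g * x .l * g⁻¹)) * g := by group
      _ = g⁻¹ * ((g * x .l * g⁻¹) * y) * g := by rw [h]
      _ = x .l * (g⁻¹ * y * g) := by group
  · rintro ⟨z, hz, rfl⟩
    calc g * z * g⁻¹ * (g * x .l * g⁻¹) = g * (z * x .l) * g⁻¹ := by group
      _ = g * (x .l * z) * g⁻¹ := by rw [hz]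
      _ = g * x .l * g⁻¹ * (g * z * g⁻¹) := by group

theorem cl_injective : Function.Injective cl := by
  intro p q
  induction p using QuotientGroup.induction_on with
  | H a =>
    induction q using QuotientGroup.induction_on with
    | H b =>
      intro h
      change a * x .l * a⁻¹ = b * x .l * b⁻¹ at h
      rw [QuotientGroup.eq, ← cent_l facts, Subgroup.mem_centralizer_singleton_iff]
      calc a⁻¹ * b * x .l = a⁻¹ * (b * x .l * b⁻¹) * b := by group
        _ = a⁻¹ * (a * x .l * a⁻¹) * b := by rw [h]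
        _ = x .l * (a⁻¹ * b) := by group

theorem card_class : Nat.card (conjugatesOf (x .l)) = 306936 := by
  rw [show conjugatesOf (x .l) = Set.range cl from Set.ext fun y => mem_D,
    Nat.card_range_of_injective cl_injective, ← Subgroup.index_eq_card, facts.index]

theorem card_H : Nat.card H40.Fischer.M24.H = 2 * 4089470473293004800 := by
  obtain ⟨K, hK, hKH, hKc, hfin, hHc, hcore⟩ := H47.Fi24.facts
  rw [H_eq]; exact hHc

theorem card_G : Nat.card G₀ = 2 * 1255205709190661721292800 := by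
  rw [← Subgroup.card_mul_index H40.Fischer.M24.H, card_H, facts.index]

theorem cent_facts (d : G₀) (hd : d ∈ conjugatesOf (x .l)) :
    Nat.card (Subgroup.centralizer ({d} : Set G₀)) = 2 * 4089470473293004800 ∧
      ∃ K : Subgroup G₀, K ≤ Subgroup.centralizer ({d} : Set G₀) ∧ Cfsg.IsFi23 K := by
  obtain ⟨g, rfl⟩ := isConj_iff.1 hd
  obtain ⟨K, hK, hKH, hKc, hfin, hHc, hcore⟩ := H47.Fi24.facts
  rw [← H_eq] at hKH
  have hinj : Function.Injective (MulAut.conj g).toMonoidHom := (MulAut.conj g).injective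
  rw [cent_conj]
  refine ⟨?_, K.map (MulAut.conj g).toMonoidHom, Subgroup.map_mono hKH, ?_, ?_⟩
  · rw [Subgroup.card_map_of_injective hinj, card_H]
  · exact (Subgroup.equivMapOfInjective K _ hinj).isSimpleGroup_congr.mp hK.1
  · rw [Subgroup.card_map_of_injective hinj]; exact hK.2

theorem commutator_facts : (∃ K : Subgroup (commutator G₀), Cfsg.IsFi23 K) ∧
    ∃ K : Subgroup (commutator G₀), Cfsg.IsHe K := by
  constructor
  · obtain ⟨K, hK, hKH, hKc, hfin, hHc, hcore⟩ := H47.Fi24.facts
    exact ⟨K.subgroupOf _, (Subgroup.subgroupOfEquivOfLe hKc).isSimpleGroup_congr.mpr hK.1,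
      (Nat.card_congr (Subgroup.subgroupOfEquivOfLe hKc).toEquiv).trans hK.2⟩
  · have hs : IsSimpleGroup Cfsg.Spor.He := H93.HeOrder.isHe.1
    obtain ⟨e⟩ := iso
    have e' := (Subgroup.subgroupOfEquivOfLe range_le).trans e
    exact ⟨hom.range.subgroupOf _, e'.isSimpleGroup_congr.mpr hs,
      (Nat.card_congr e'.toEquiv).trans H93.HeOrder.isHe.2⟩

theorem realization : ∃ (G : Type) (_ : Group G) (_ : Finite G),
    Nat.card G = 2 * 1255205709190661721292800 ∧ ∃ D : Set G, Cfsg.IsThreeTranspositionClass D ∧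
      Nat.card D = 306936 ∧ (∀ d ∈ D,
        Nat.card (Subgroup.centralizer ({d} : Set G)) = 2 * 4089470473293004800 ∧
          ∃ K : Subgroup G, K ≤ Subgroup.centralizer ({d} : Set G) ∧ Cfsg.IsFi23 K) ∧
      ∃ H : Subgroup G, H.index = 2 ∧ Cfsg.IsFi24' H ∧ (∃ K : Subgroup H, Cfsg.IsFi23 K) ∧
        (∃ K : Subgroup H, Cfsg.IsHe K) :=
  ⟨G₀, inferInstance, facts.fin, card_G, conjugatesOf (x .l), class_tt facts, card_class, cent_facts,
    commutator G₀, Cfsg.Agent.S1691.result, H47.Fi24.isFi24', commutator_facts⟩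

end H92.FiHe
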